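import Cfsg.Agent.Lib.Coprime
import Cfsg.Agent.Lib.PSolvable
import Cfsg.Agent.Lib.Blocks.HallHigman

/-!
# When does a Sylow `p`-subgroup normalize a Sylow `q`-subgroup
-/

namespace CfsgLib.SylowNormalize

open Cfsg
open scoped Pointwise

set_option linter.unusedVariables false
set_option linter.style.haveILetI false
set_option linter.unusedSectionVars false

universe u

variable {G : Type u} [Group G] [Finite G] {p q : ℕ} [Fact p.Prime] [Fact q.Prime]

theorem exists_sylow_le_of_index {H : Subgroup G} (h : ¬ p ∣ H.index) :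
    ∃ P : Sylow p G, (P : Subgroup G) ≤ H := by
  obtain ⟨P0⟩ : Nonempty (Sylow p H) := inferInstance
  have hp : IsPGroup p ((P0 : Subgroup H).map H.subtype) := P0.2.map _
  have hi : ¬ p ∣ ((P0 : Subgroup H).map H.subtype).index := by
    rw [Subgroup.index_map_subtype]
    exact Nat.Prime.not_dvd_mul Fact.out P0.not_dvd_index h
  exact ⟨hp.toSylow hi, Subgroup.map_subtype_le _⟩

/-- In a `p`-solvable group a Sylow `p`-subgroup normalizing a Sylow `q`-subgroup forces
`G / O_{p'}` to be a `q'`-group. -/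
theorem not_dvd_index_of_normalize (hpq : p ≠ q) (hsolv : IsPSolvable p G) {P : Sylow p G}
    {Q : Sylow q G} (h : (P : Subgroup G) ≤ Subgroup.normalizer ((Q : Subgroup G) : Set G)) :
    ¬ q ∣ (pPrimeCore p G).index := by
  set K := pPrimeCore p G with hK
  set f := QuotientGroup.mk' K with hf
  have hfs := QuotientGroup.mk'_surjective K
  have hh := CfsgLib.Blocks.hall_higman (Cfsg.Agent.S3744.isPSolvable_quotient hsolv K)
    (CfsgLib.pPrimeCore_quotient_eq_bot p)
  set Pb := P.mapSurjective hfs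
  set Qb := Q.mapSurjective hfs
  have hPQ : (Pb : Subgroup (G ⧸ K)) ≤ Subgroup.normalizer ((Qb : Subgroup (G ⧸ K)) : Set (G ⧸ K)) :=
    (Subgroup.map_mono h).trans (Subgroup.le_normalizer_map f)
  have hR := CfsgLib.pCore_le_sylow Pb
  haveI := CfsgLib.Blocks.pCore_normal' (G := G ⧸ K) (p := p)
  have hQR : (Qb : Subgroup (G ⧸ K)) ≤ Subgroup.centralizer (pCore p (G ⧸ K) : Set (G ⧸ K)) := by
    intro y hy r hr
    have h1 : r * y * r⁻¹ * y⁻¹ ∈ pCore p (G ⧸ K) := by
      rw [show r * y * r⁻¹ * y⁻¹ = r * (y * r⁻¹ * y⁻¹) by group]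
      exact mul_mem hr ((inferInstance : (pCore p (G ⧸ K)).Normal).conj_mem _ (inv_mem hr) y)
    have h2 : r * y * r⁻¹ * y⁻¹ ∈ (Qb : Subgroup (G ⧸ K)) :=
      mul_mem ((Subgroup.mem_normalizer_iff.1 (hPQ (hR hr)) y).1 hy) (inv_mem hy)
    have h3 := Subgroup.disjoint_def.1 (IsPGroup.disjoint_of_ne p q hpq _ _
      (CfsgLib.isPGroup_pCore p) Qb.2) h1 h2
    exact mul_inv_eq_iff_eq_mul.1 (mul_inv_eq_one.1 h3)
  have hQ1 : (Qb : Subgroup (G ⧸ K)) = ⊥ :=
    disjoint_self.1 (Disjoint.mono_left (hQR.trans hh)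
      (IsPGroup.disjoint_of_ne p q hpq _ _ (CfsgLib.isPGroup_pCore p) Qb.2))
  intro hd
  have h4 := Qb.card_eq_multiplicity
  rw [hQ1, Subgroup.card_bot] at h4
  have h5 : q ∣ Nat.card (G ⧸ K) := hd
  have h6 := (Nat.Prime.dvd_iff_one_le_factorization Fact.out Nat.card_pos.ne').1 h5
  rcases Nat.pow_eq_one.1 h4.symm with e | e
  · exact (Fact.out : q.Prime).ne_one e
  · omega

/-- If `G / O_{p'}` is a `q'`-group, some Sylow `p`-subgroup normalizes a Sylow `q`-subgroup. -/
theorem exists_normalize_of_not_dvd (h : ¬ q ∣ (pPrimeCore p G).index) :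
    ∃ (P : Sylow p G) (Q : Sylow q G),
      (P : Subgroup G) ≤ Subgroup.normalizer ((Q : Subgroup G) : Set G) := by
  set K := pPrimeCore p G with hK
  obtain ⟨P⟩ : Nonempty (Sylow p G) := inferInstance
  have hPK : (P : Subgroup G) ≤ Subgroup.normalizer (K : Set G) :=
    fun x _ => by rw [Subgroup.normalizer_eq_top_iff.2 inferInstance]; trivial
  obtain ⟨k, hk⟩ := P.2.exists_card_eq
  have hcop : (Nat.card (P : Subgroup G)).Coprime (Nat.card K) := by
    rw [hk]
    exact (CfsgLib.card_pPrimeCore_coprime p).symm.pow_left k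
  haveI := P.2.isNilpotent
  obtain ⟨Q0, hQ0⟩ := CfsgLib.coprime_exists_invariant_sylow hPK hcop (Or.inl inferInstance) q
  have hp : IsPGroup q ((Q0 : Subgroup K).map K.subtype) := Q0.2.map _
  have hi : ¬ q ∣ ((Q0 : Subgroup K).map K.subtype).index := by
    rw [Subgroup.index_map_subtype]
    exact Nat.Prime.not_dvd_mul Fact.out Q0.not_dvd_index h
  exact ⟨P, hp.toSylow hi, hQ0⟩

theorem index_centralizer_map {H : Type u} [Group H] {f : G →* H} (hf : Function.Surjective f)
    (y : G) : (Subgroup.centralizer ({f y} : Set H)).index ∣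
      (Subgroup.centralizer ({y} : Set G)).index := by
  refine (Subgroup.index_dvd_of_le ?_).trans (Subgroup.index_map_dvd _ hf)
  rintro _ ⟨x, hx, rfl⟩
  refine Subgroup.mem_centralizer_singleton_iff.2 ?_
  rw [← map_mul, ← map_mul, Subgroup.mem_centralizer_singleton_iff.1 hx]

/-- The hypothesis passes to quotients. -/
theorem class_size_quotient (h : ∀ y : G, (∃ k : ℕ, orderOf y = q ^ k) →
      ¬ p ∣ (Subgroup.centralizer ({y} : Set G)).index) (N : Subgroup G) [N.Normal] :
    ∀ y : G ⧸ N, (∃ k : ℕ, orderOf y = q ^ k) →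
      ¬ p ∣ (Subgroup.centralizer ({y} : Set (G ⧸ N))).index := by
  intro y hy hd
  have hz : IsPGroup q (Subgroup.zpowers y) := by
    obtain ⟨k, hk⟩ := hy
    exact IsPGroup.of_card (by rw [Nat.card_zpowers, hk])
  obtain ⟨S, hS⟩ := hz.exists_le_sylow
  obtain ⟨S0, rfl⟩ := Sylow.mapSurjective_surjective (QuotientGroup.mk'_surjective N) q S
  obtain ⟨x, hx, rfl⟩ := hS (Subgroup.mem_zpowers y)
  obtain ⟨k, hk⟩ := IsPGroup.iff_orderOf.1 S0.2 ⟨x, hx⟩
  exact h x ⟨k, by rw [← hk, ← Subgroup.orderOf_coe]⟩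
    (hd.trans (index_centralizer_map (QuotientGroup.mk'_surjective N) x))

/-- The `p`-solvable case. -/
theorem of_class_size_pSolvable (hpq : p ≠ q) (hsolv : IsPSolvable p G)
    (h : ∀ y : G, (∃ k : ℕ, orderOf y = q ^ k) →
      ¬ p ∣ (Subgroup.centralizer ({y} : Set G)).index) :
    ¬ q ∣ (pPrimeCore p G).index := by
  set K := pPrimeCore p G with hK
  have hh := CfsgLib.Blocks.hall_higman (Cfsg.Agent.S3744.isPSolvable_quotient hsolv K)
    (CfsgLib.pPrimeCore_quotient_eq_bot p)
  intro hd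
  obtain ⟨y, hy⟩ := exists_prime_orderOf_dvd_card' (G := G ⧸ K) q hd
  have h1 := class_size_quotient h K y ⟨1, by rw [hy, pow_one]⟩
  obtain ⟨P, hP⟩ := exists_sylow_le_of_index h1
  have h2 : y ∈ pCore p (G ⧸ K) := hh fun r hr =>
    Subgroup.mem_centralizer_singleton_iff.1 (hP (CfsgLib.pCore_le_sylow P hr))
  obtain ⟨k, hk⟩ := IsPGroup.iff_orderOf.1 (CfsgLib.isPGroup_pCore p) ⟨y, h2⟩
  rw [← Subgroup.orderOf_coe, hy] at hk
  exact hpq ((Nat.prime_dvd_prime_iff_eq Fact.out Fact.out).1
    ((Fact.out : q.Prime).dvd_of_dvd_pow (hk ▸ dvd_rfl : q ∣ p ^ k))).symm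

/-- Lifting through a normal `q'`-subgroup. -/
theorem lift_pPrime {K : Subgroup G} [K.Normal] (hK : ¬ q ∣ Nat.card K) (hpq : p ≠ q)
    (h : ∀ y : G, (∃ k : ℕ, orderOf y = q ^ k) →
      ¬ p ∣ (Subgroup.centralizer ({y} : Set G)).index) (Q : Sylow q G)
    (hL : ¬ p ∣ (Subgroup.normalizer (((Q : Subgroup G) ⊔ K : Subgroup G) : Set G)).index) :
    ∃ P : Sylow p G, (P : Subgroup G) ≤ Subgroup.normalizer ((Q : Subgroup G) : Set G) := by
  classical
  refine exists_sylow_le_of_index ?_
  -- an invariant Sylow subgroup of `K` is centralized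
  obtain ⟨k, hk⟩ := Q.2.exists_card_eq
  have hcopQ : (Nat.card (Q : Subgroup G)).Coprime (Nat.card K) := by
    rw [hk]
    exact ((Fact.out : q.Prime).coprime_iff_not_dvd.2 hK).pow_left k
  have hQK : (Q : Subgroup G) ≤ Subgroup.normalizer (K : Set G) :=
    fun x _ => by rw [Subgroup.normalizer_eq_top_iff.2 inferInstance]; trivial
  haveI := Q.2.isNilpotent
  obtain ⟨S, hS⟩ := CfsgLib.coprime_exists_invariant_sylow hQK hcopQ (Or.inl inferInstance) p
  have hSQ : (S : Subgroup K).map K.subtype ≤ Subgroup.centralizer ((Q : Subgroup G) : Set G) := by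
    intro s hs y hy
    set A := Subgroup.zpowers y
    have hAQ : A ≤ (Q : Subgroup G) := Subgroup.zpowers_le.2 hy
    set C := Subgroup.centralizer ({y} : Set G) with hC
    have hCK : ¬ p ∣ (C.subgroupOf K).index := by
      obtain ⟨j, hj⟩ := IsPGroup.iff_orderOf.1 Q.2 ⟨y, hy⟩
      intro hd
      refine h y ⟨j, by rw [← hj, ← Subgroup.orderOf_coe]⟩ (hd.trans ?_)
      have h1 : C.relIndex (C ⊔ K) * (C ⊔ K).index = C.index :=
        Subgroup.relIndex_mul_index le_sup_left
      have h2 : C.relIndex K ∣ C.relIndex (C ⊔ K) := by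
        have e1 := Subgroup.relIndex_mul_index (show C ⊓ K ≤ C from inf_le_left)
        rw [Subgroup.inf_relIndex_left, ← Subgroup.relIndex_sup_right] at e1
        have e2 := Subgroup.relIndex_mul_index (show C ⊓ K ≤ K from inf_le_right)
        rw [Subgroup.inf_relIndex_right, ← e1,
          ← Subgroup.relIndex_mul_index (show K ≤ C ⊔ K from le_sup_right),
          ← Subgroup.relIndex_mul_index (show C ≤ C ⊔ K from le_sup_left)] at e2
        refine dvd_of_eq (mul_right_cancel₀ (b := K.relIndex (C ⊔ K) * (C ⊔ K).index)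
          (Nat.mul_ne_zero Subgroup.index_ne_zero_of_finite Subgroup.index_ne_zero_of_finite) ?_)
        rw [e2]; ring
      rw [← h1]
      exact dvd_mul_of_dvd_left h2 _
    obtain ⟨S1, hS1⟩ := exists_sylow_le_of_index (G := K) hCK
    have hS1c : (S1 : Subgroup K).map K.subtype ≤ C := by
      rintro _ ⟨x, hx, rfl⟩; exact hS1 hx
    have hS1n : A ≤ Subgroup.normalizer ((S1 : Subgroup K).map K.subtype : Set G) := by
      refine Subgroup.zpowers_le.2 (Subgroup.mem_normalizer_iff.2 fun x => ?_)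
      constructor
      · intro hx
        rwa [← Subgroup.mem_centralizer_singleton_iff.1 (hS1c hx), mul_inv_cancel_right]
      · intro hx
        have e := Subgroup.mem_centralizer_singleton_iff.1 (hS1c hx)
        have e' : y * x * y⁻¹ = x := by
          have := congrArg (fun z => y⁻¹ * z) e
          simp [mul_assoc] at this
          simpa [mul_assoc] using this.symm
        rwa [e'] at hx
    obtain ⟨c, hc, hcS⟩ := CfsgLib.coprime_invariant_sylow_conj (hAQ.trans hQK)
      (hcopQ.coprime_dvd_left (Subgroup.card_dvd_of_le hAQ))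
      (Or.inl (Group.isSolvable_of_comm fun a b => mul_comm' a b)) S1 S hS1n (hAQ.trans hS)
    obtain ⟨x, hx, rfl⟩ := hs
    rw [← hcS] at hx
    have hx : c⁻¹ * x * c ∈ (S1 : Subgroup K) := CfsgLib.mem_conj_smul_iff.1 hx
    have h3 := Subgroup.mem_centralizer_singleton_iff.1 (hS1c ⟨_, hx, rfl⟩)
    have h4 : (c : G) * y = y * c := (hc y (Subgroup.mem_zpowers y)).symm
    simp only [Subgroup.coe_subtype, Subgroup.coe_mul, Subgroup.coe_inv] at h3 ⊢
    set z : G := (c : G)⁻¹ * (x : G) * c with hz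
    have h5 : (c : G)⁻¹ * y = y * (c : G)⁻¹ := (Commute.inv_left (h4 : Commute (c : G) y)).eq
    calc y * (x : G) = (y * c) * z * (c : G)⁻¹ := by rw [hz]; group
      _ = c * (y * z) * (c : G)⁻¹ := by rw [← h4]; group
      _ = c * (z * y) * (c : G)⁻¹ := by rw [h3]
      _ = c * z * (y * (c : G)⁻¹) := by group
      _ = (x : G) * y := by rw [← h5, hz]; group
  -- Frattini inside the normalizer of `Q K`
  set W := (Q : Subgroup G) ⊔ K with hW
  set L := Subgroup.normalizer (W : Set G) with hLdef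
  have hWL : W ≤ L := Subgroup.le_normalizer
  have hQL : (Q : Subgroup G) ≤ L := le_sup_left.trans hWL
  haveI : (W.subgroupOf L).Normal :=
    (Subgroup.normal_subgroupOf_iff_le_normalizer hWL).2 le_rfl
  haveI : (K.subgroupOf L).Normal := inferInstance
  set QL := Q.subtype hQL
  have hfr := Sylow.normalizer_sup_eq_top' (N := W.subgroupOf L) QL fun x hx =>
    Subgroup.mem_sup_left hx
  have hW' : W.subgroupOf L ≤
      Subgroup.normalizer ((QL : Subgroup L) : Set L) ⊔ K.subgroupOf L := by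
    rw [hW, Subgroup.subgroupOf_sup hQL (le_sup_right.trans hWL)]
    exact sup_le (Subgroup.le_normalizer.trans le_sup_left) le_sup_right
  set NL := Subgroup.normalizer ((QL : Subgroup L) : Set L) with hNL
  set KL := K.subgroupOf L with hKL
  have htop : NL ⊔ KL = ⊤ := eq_top_iff.2 (hfr ▸ sup_le le_sup_left hW')
  have hidx : NL.index = NL.relIndex KL := by
    have e1 := Subgroup.relIndex_mul_index (show NL ⊓ KL ≤ NL from inf_le_left)
    rw [Subgroup.inf_relIndex_left, ← Subgroup.relIndex_sup_right, htop,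
      Subgroup.relIndex_top_right] at e1
    have e2 := Subgroup.relIndex_mul_index (show NL ⊓ KL ≤ KL from inf_le_right)
    rw [Subgroup.inf_relIndex_right, ← e1, mul_comm KL.index] at e2
    exact (mul_right_cancel₀ Subgroup.index_ne_zero_of_finite e2).symm
  have hle : NL.map L.subtype ≤ Subgroup.normalizer ((Q : Subgroup G) : Set G) := by
    refine (Subgroup.le_normalizer_map L.subtype).trans (le_of_eq ?_)
    rw [Sylow.coe_subtype, Subgroup.subgroupOf_map_subtype, inf_of_le_left hQL]
  intro hd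
  refine Nat.Prime.not_dvd_mul Fact.out ?_ hL
    (hd.trans ((Subgroup.index_dvd_of_le hle).trans (Subgroup.index_map_subtype NL).dvd))
  rw [hidx]
  intro hd2
  have hKp : ((S : Subgroup K).map K.subtype).subgroupOf L ≤ NL ⊓ KL := by
    intro x hx
    have hx' : (x : G) ∈ (S : Subgroup K).map K.subtype := hx
    refine ⟨Subgroup.mem_normalizer_iff.2 fun z => ?_, Subgroup.mem_subgroupOf.2 (Subgroup.map_subtype_le _ hx')⟩
    have hcx := hSQ hx'
    show ((z : G) ∈ (Q : Subgroup G)) ↔ ((x : G) * z * (x : G)⁻¹ ∈ (Q : Subgroup G))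
    constructor
    · intro hz
      rwa [← hcx _ hz, mul_inv_cancel_right]
    · intro hz
      have e := hcx _ hz
      have e' : (z : G) = (x : G) * z * (x : G)⁻¹ := by
        calc (z : G) = (x : G)⁻¹ * ((x : G) * z * (x : G)⁻¹ * x) := by group
          _ = (x : G)⁻¹ * ((x : G) * ((x : G) * z * (x : G)⁻¹)) := by rw [e]
          _ = (x : G) * z * (x : G)⁻¹ := by group
      rwa [e']
  have hKL' : K ≤ L := le_sup_right.trans hWL
  have h5 : ((S : Subgroup K).map K.subtype).relIndex K = (S : Subgroup K).index := by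
    rw [Subgroup.relIndex]
    congr 1
    exact Subgroup.comap_map_eq_self_of_injective K.subtype_injective _
  have h6 : (((S : Subgroup K).map K.subtype).subgroupOf L).relIndex KL = (S : Subgroup K).index := by
    rw [hKL, Subgroup.relIndex_subgroupOf hKL', h5]
  exact S.not_dvd_index (h6 ▸ hd2.trans
    (Subgroup.relIndex_dvd_of_le_left _ (hKp.trans inf_le_left)))

end CfsgLib.SylowNormalize

namespace CfsgLib.SylowNormalize

open Cfsg

universe u

variable {p q : ℕ} [Fact p.Prime] [Fact q.Prime]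

/-- The `q`-solvable case. -/
theorem exists_normalize_of_qSolvable (hpq : p ≠ q) (n : ℕ) : ∀ (G : Type u) [Group G] [Finite G],
    Nat.card G = n → IsPSolvable q G →
    (∀ y : G, (∃ k : ℕ, orderOf y = q ^ k) →
      ¬ p ∣ (Subgroup.centralizer ({y} : Set G)).index) →
    ∃ (P : Sylow p G) (Q : Sylow q G),
      (P : Subgroup G) ≤ Subgroup.normalizer ((Q : Subgroup G) : Set G) := by
  induction n using Nat.strong_induction_on with
  | _ n ih =>
    intro G _ _ hn hsolv h
    classical
    obtain ⟨P0⟩ : Nonempty (Sylow p G) := inferInstance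
    obtain ⟨Q0⟩ : Nonempty (Sylow q G) := inferInstance
    have hrec : ∀ (N : Subgroup G) [N.Normal], N ≠ ⊥ → ∃ (P : Sylow p G) (Q : Sylow q G),
        (P : Subgroup G) ≤
          Subgroup.normalizer ((((Q : Subgroup G) ⊔ N : Subgroup G)) : Set G) := by
      intro N _ hN
      have hlt : Nat.card (G ⧸ N) < n := by
        rw [← hn, Subgroup.card_eq_card_quotient_mul_card_subgroup N]
        refine lt_mul_of_one_lt_right Nat.card_pos ?_
        haveI := (Subgroup.nontrivial_iff_ne_bot N).2 hN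
        exact Finite.one_lt_card
      obtain ⟨Pb, Qb, hPQ⟩ := ih _ hlt (G ⧸ N) rfl (Cfsg.Agent.S3744.isPSolvable_quotient hsolv N)
        (class_size_quotient h N)
      obtain ⟨P, rfl⟩ := Sylow.mapSurjective_surjective (QuotientGroup.mk'_surjective N) p Pb
      obtain ⟨Q, rfl⟩ := Sylow.mapSurjective_surjective (QuotientGroup.mk'_surjective N) q Qb
      refine ⟨P, Q, ?_⟩
      have hcm : ((Q : Subgroup G).map (QuotientGroup.mk' N)).comap (QuotientGroup.mk' N) =
          (Q : Subgroup G) ⊔ N := by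
        rw [Subgroup.comap_map_eq, QuotientGroup.ker_mk']
      rw [← hcm, ← Subgroup.comap_normalizer_eq_of_surjective _ (QuotientGroup.mk'_surjective N)]
      exact Subgroup.map_le_iff_le_comap.1 hPQ
    haveI := CfsgLib.Blocks.pCore_normal' (G := G) (p := q)
    by_cases hR : pCore q G = ⊥
    · by_cases hK : pPrimeCore q G = ⊥
      · have hh := CfsgLib.Blocks.hall_higman hsolv hK
        rw [hR] at hh
        refine ⟨P0, Q0, fun x _ => ?_⟩
        have hx : x = 1 := Subgroup.mem_bot.1 (hh fun z hz => by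
          rw [Subgroup.mem_bot.1 hz, one_mul, mul_one])
        rw [hx]; exact one_mem _
      · obtain ⟨P, Q, hPQ⟩ := hrec _ hK
        obtain ⟨P', hP'⟩ := lift_pPrime (K := pPrimeCore q G)
          (CfsgLib.not_dvd_card_pPrimeCore (Fact.out : q.Prime)) hpq h Q
          fun hd => P.not_dvd_index (hd.trans (Subgroup.index_dvd_of_le hPQ))
        exact ⟨P', Q, hP'⟩
    · obtain ⟨P, Q, hPQ⟩ := hrec _ hR
      rw [sup_eq_left.2 (CfsgLib.pCore_le_sylow Q)] at hPQ
      exact ⟨P, Q, hPQ⟩

end CfsgLib.SylowNormalize
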