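import Cfsg.Agent.Lib.Coprime
import Cfsg.Agent.Lib.TransferApps
import Cfsg.Agent.Lib.PSolvable

/-!
# Trivial intersection Sylow subgroups and minimal normal subgroups
-/

namespace CfsgLib.SylowNormalize

open Cfsg
open scoped Pointwise

set_option linter.unusedVariables false
set_option linter.style.haveILetI false
set_option linter.unusedSectionVars false

universe u

variable {G : Type u} [Group G] [Finite G] {p : ℕ} [Fact p.Prime]

/-- All Sylow subgroups are trivial intersection sets, and both cores are trivial. -/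
structure TICores (p : ℕ) (G : Type u) [Group G] : Prop where
  opBot : pCore p G = ⊥
  opPrimeBot : pPrimeCore p G = ⊥
  ti : ∀ (P : Sylow p G) (g x : G), g ∉ Subgroup.normalizer ((P : Subgroup G) : Set G) →
    x ∈ (P : Subgroup G) → g⁻¹ * x * g ∈ (P : Subgroup G) → x = 1

theorem TICores.dvd_card (h : TICores p G) {K : Subgroup G} [K.Normal] (hK : K ≠ ⊥) :
    p ∣ Nat.card K := by
  by_contra hd
  have h1 := CfsgLib.le_pPrimeCore (p := p) (N := K)
    ((Fact.out : p.Prime).coprime_iff_not_dvd.2 hd).symm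
  rw [h.opPrimeBot] at h1
  exact hK (le_bot_iff.1 h1)

theorem TICores.exists_mem (h : TICores p G) {K : Subgroup G} [K.Normal] (hK : K ≠ ⊥)
    (P : Sylow p G) : ∃ x ∈ K, x ∈ (P : Subgroup G) ∧ x ≠ 1 := by
  obtain ⟨y, hy⟩ := exists_prime_orderOf_dvd_card' (G := K) p (h.dvd_card hK)
  have hy' : IsPGroup p (Subgroup.zpowers (y : G)) :=
    IsPGroup.of_card (n := 1) (by rw [Nat.card_zpowers, Subgroup.orderOf_coe, hy, pow_one])
  obtain ⟨S, hS⟩ := hy'.exists_le_sylow
  obtain ⟨g, hg⟩ := MulAction.exists_smul_eq G S P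
  refine ⟨g * y * g⁻¹, (inferInstance : K.Normal).conj_mem _ y.2 g, ?_, fun e => ?_⟩
  · rw [← hg, Sylow.coe_subgroup_smul, Subgroup.mem_pointwise_smul_iff_inv_smul_mem]
    simpa [mul_assoc] using hS (Subgroup.mem_zpowers (y : G))
  · rw [conj_eq_one_iff, OneMemClass.coe_eq_one] at e
    rw [e, orderOf_one] at hy
    exact (Fact.out : p.Prime).ne_one hy.symm

/-- A normal subgroup centralizing a nontrivial normal subgroup is trivial. -/
theorem TICores.eq_bot_of_commute (h : TICores p G) {A B : Subgroup G} [A.Normal] [B.Normal]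
    (hA : A ≠ ⊥) (hB : ∀ b ∈ B, ∀ a ∈ A, b * a = a * b) : B = ⊥ := by
  by_contra hB1
  obtain ⟨P⟩ : Nonempty (Sylow p G) := inferInstance
  obtain ⟨x, hxA, hxP, hx1⟩ := h.exists_mem hA P
  have hBN : B ≤ Subgroup.normalizer ((P : Subgroup G) : Set G) := by
    intro b hb
    by_contra hn
    refine hx1 (h.ti P b x hn hxP ?_)
    rwa [mul_assoc, ← hB b hb x hxA, inv_mul_cancel_left]
  obtain ⟨y, hyB, hyP, hy1⟩ := h.exists_mem hB1 P
  set I := (P : Subgroup G) ⊓ B with hI
  have hIn : I.Normal := by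
    refine ⟨fun z hz g => ⟨?_, (inferInstance : B.Normal).conj_mem _ hz.2 g⟩⟩
    obtain ⟨k, hk⟩ := P.2 ⟨z, hz.1⟩
    refine TransferApps.mem_sylow_of_mem_normalizer P
      (hBN ((inferInstance : B.Normal).conj_mem _ hz.2 g)) ⟨k, ?_⟩
    rw [conj_pow, show z ^ p ^ k = 1 from congrArg Subtype.val hk]
    group
  have h3 := CfsgLib.le_pCore (p := p) (N := I) (hN := hIn) (P.2.to_le inf_le_left)
  rw [h.opBot, le_bot_iff] at h3
  exact hy1 (Subgroup.mem_bot.1 (h3 ▸ (⟨hyP, hyB⟩ : y ∈ I)))

/-- There is a least nontrivial normal subgroup. -/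
theorem TICores.exists_least (h : TICores p G) [Nontrivial G] :
    ∃ N : Subgroup G, N.Normal ∧ N ≠ ⊥ ∧ ∀ K : Subgroup G, K.Normal → K ≠ ⊥ → N ≤ K := by
  obtain ⟨N, ⟨hN, hN1⟩, hmin⟩ := (Set.toFinite {N : Subgroup G | N.Normal ∧ N ≠ ⊥}).exists_minimal
    ⟨⊤, inferInstance, top_ne_bot⟩
  refine ⟨N, hN, hN1, fun K hK hK1 => ?_⟩
  by_contra hle
  have hbot : N ⊓ K = ⊥ := by
    by_contra hne
    exact hle ((hmin ⟨Subgroup.normal_inf_normal N K, hne⟩ inf_le_left).trans inf_le_right)
  exact hK1 (h.eq_bot_of_commute hN1 fun b hb a ha =>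
    ((Subgroup.commute_of_normal_of_disjoint N K hN hK (disjoint_iff.2 hbot) a b ha hb).symm).eq)

/-- The hypotheses pass to normal subgroups. -/
theorem TICores.restrict (h : TICores p G) {N : Subgroup G} [N.Normal] : TICores p N where
  opBot := by
    have h1 := CfsgLib.le_pCore (p := p) (N := (pCore p N).map N.subtype)
      ((CfsgLib.isPGroup_pCore p).map _)
    rw [h.opBot, le_bot_iff] at h1
    exact (Subgroup.map_eq_bot_iff_of_injective _ N.subtype_injective).1 h1
  opPrimeBot := by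
    have h1 := CfsgLib.le_pPrimeCore (p := p) (N := (pPrimeCore p N).map N.subtype)
      (by rw [Subgroup.card_map_of_injective N.subtype_injective]; exact CfsgLib.card_pPrimeCore_coprime p)
    rw [h.opPrimeBot, le_bot_iff] at h1
    exact (Subgroup.map_eq_bot_iff_of_injective _ N.subtype_injective).1 h1
  ti := by
    intro Q n x hn hx hxn
    obtain ⟨P, hP⟩ := (Q.2.map N.subtype).exists_le_sylow
    have hQP : ∀ z : N, z ∈ (Q : Subgroup N) ↔ (z : G) ∈ (P : Subgroup G) := by
      intro z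
      refine ⟨fun hz => hP ⟨z, hz, rfl⟩, fun hz => ?_⟩
      have h1 : IsPGroup p ((P : Subgroup G).subgroupOf N) := P.2.comap_subtype
      rw [← Q.3 h1 fun w hw => hP ⟨w, hw, rfl⟩]
      exact hz
    by_contra hx1
    refine hn (Subgroup.mem_normalizer_iff.2 fun z => ?_)
    have hnP : (n : G) ∈ Subgroup.normalizer ((P : Subgroup G) : Set G) := by
      by_contra hc
      exact hx1 (Subtype.ext (h.ti P n x hc ((hQP x).1 hx) ((hQP _).1 hxn)))
    rw [hQP, hQP]
    exact Subgroup.mem_normalizer_iff.1 hnP (z : G)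

end CfsgLib.SylowNormalize
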